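import Cfsg.Agent.Solv.ClassSize
import Cfsg.Agent.Solv.RealLift
import Cfsg.Agent.Solv.RealElements
import Cfsg.Agent.Solv.Cores
import Cfsg.Agent.Cor.OddSol
import Cfsg.Agent.Block.TwoGood

/-!
Real elements of odd prime power order, and linear groups over `F₂` all of whose vector
stabilisers are 2-closed of odd index: basic facts.
-/

set_option autoImplicit false

open Subgroup MulAction
open scoped Pointwise

namespace Cfsg.Lib.RealDisc

open Cfsg.Lib.Solv Cfsg.Lib.Solv.ClassSize Cfsg.Lib.Solv.Real Cfsg.Lib.Block.TwoGood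

section Gen

variable {G : Type*} [Group G]

/-- A real element of odd prime power order. -/
def RO (y : G) : Prop := (∃ q j : ℕ, q.Prime ∧ q ≠ 2 ∧ orderOf y = q ^ j) ∧ IsConj y y⁻¹

/-- No nontrivial real element of odd prime power order. -/
def NoR (G : Type*) [Group G] : Prop := ∀ y : G, RO y → y = 1

theorem RO.odd {y : G} (h : RO y) : Odd (orderOf y) := by
  obtain ⟨⟨q, j, hq, hq2, e⟩, -⟩ := h
  rw [e]; exact (hq.odd_of_ne_two hq2).pow

theorem RO.map_inj {H : Type*} [Group H] (f : G →* H) (hf : Function.Injective f) {y : G}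
    (h : RO y) : RO (f y) := by
  obtain ⟨⟨q, j, hq, hq2, e⟩, hc⟩ := h
  exact ⟨⟨q, j, hq, hq2, by rw [orderOf_injective f hf, e]⟩, isConj_inv_map f hc⟩

theorem RO.conj {y : G} (h : RO y) (g : G) : RO (g * y * g⁻¹) :=
  h.map_inj (MulAut.conj g).toMonoidHom (MulAut.conj g).injective

theorem RO.lift [Finite G] {H : Type*} [Group H] (f : G →* H) (hf : Function.Surjective f)
    {y : H} (h : RO y) : ∃ x, f x = y ∧ RO x := by
  obtain ⟨⟨q, j, hq, hq2, e⟩, hc⟩ := h
  obtain ⟨x, h1, ⟨k, h2⟩, h3⟩ := exists_real_lift_prime_pow f hf hq hq2 e hc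
  exact ⟨x, h1, ⟨q, k, hq, hq2, h2⟩, h3⟩

theorem NoR.of_inj {H : Type*} [Group H] (h : NoR H) (f : G →* H) (hf : Function.Injective f) :
    NoR G := fun y hy => hf (by rw [h _ (hy.map_inj f hf), map_one])

theorem NoR.of_surj [Finite G] {H : Type*} [Group H] (h : NoR G) (f : G →* H)
    (hf : Function.Surjective f) : NoR H := fun y hy => by
  obtain ⟨x, rfl, hx⟩ := hy.lift f hf
  rw [h x hx, map_one]

theorem NoR.of_le {H K : Subgroup G} (h : NoR K) (hle : H ≤ K) : NoR H :=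
  h.of_inj (inclusion hle) (inclusion_injective hle)

theorem NoR.map [Finite G] {H : Type*} [Group H] {K : Subgroup G} (h : NoR K) (f : G →* H) :
    NoR (K.map f) := h.of_surj (f.subgroupMap K) (f.subgroupMap_surjective K)

theorem NoR.normal [Finite G] (h : NoR G) (P : Sylow 2 G) : (P : Subgroup G).Normal := by
  by_contra hP
  obtain ⟨x, q, j, hq, hq2, hx, e, hc⟩ := exists_real_of_not_normal P hP
  exact hx (h x ⟨⟨q, j, hq, hq2, e⟩, hc⟩)

theorem NoR.solvable [Finite G] (h : NoR G) : Group.IsSolvable G := by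
  obtain ⟨P⟩ : Nonempty (Sylow 2 G) := inferInstance
  exact Cor.isSolvable_of_normal_sylow_two P (h.normal P)

theorem exists_RO_of_inverted [Finite G] {x g : G} (hodd : Odd (orderOf x)) (hx : x ≠ 1)
    (h : g * x * g⁻¹ = x⁻¹) :
    ∃ y ∈ zpowers x, y ≠ 1 ∧ (orderOf y).Prime ∧ RO y ∧ g * y * g⁻¹ = y⁻¹ := by
  have h1 : orderOf x ≠ 1 := fun e => hx (orderOf_eq_one_iff.1 e)
  obtain ⟨q, hq, hd⟩ := Nat.exists_prime_and_dvd h1
  have hq2 : q ≠ 2 := by
    rintro rfl
    exact (Nat.not_even_iff_odd.2 hodd) (even_iff_two_dvd.2 hd)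
  have ho : orderOf (x ^ (orderOf x / q)) = q := orderOf_pow_orderOf_div (orderOf_pos x).ne' hd
  have hi : g * x ^ (orderOf x / q) * g⁻¹ = (x ^ (orderOf x / q))⁻¹ := by
    rw [← conj_pow, h, inv_pow]
  refine ⟨x ^ (orderOf x / q), pow_mem (mem_zpowers x) _, fun e => ?_, ho.symm ▸ hq,
    ⟨⟨q, 1, hq, hq2, by rw [ho, pow_one]⟩, isConj_iff.2 ⟨g, hi⟩⟩, hi⟩
  rw [e, orderOf_one] at ho
  exact hq.ne_one ho.symm

theorem mem_sylow_of_mem_normalizer {p : ℕ} [Fact p.Prime] (S : Sylow p G) {g : G} {k : ℕ}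
    (hg : g ^ p ^ k = 1) (h : g ∈ normalizer ((S : Subgroup G) : Set G)) :
    g ∈ (S : Subgroup G) := by
  have h1 := (isPGroup_zpowers_of_pow_eq_one hg).inf_normalizer_sylow S
  have h2 : g ∈ zpowers g ⊓ normalizer ((S : Subgroup G) : Set G) := ⟨mem_zpowers g, h⟩
  exact (h1 ▸ h2 : g ∈ zpowers g ⊓ (S : Subgroup G)).2

theorem le_sylow_of_le_normalizer {p : ℕ} [Fact p.Prime] (S : Sylow p G) {Q : Subgroup G}
    (hQ : IsPGroup p Q) (h : Q ≤ normalizer ((S : Subgroup G) : Set G)) :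
    Q ≤ (S : Subgroup G) := fun g hg => by
  obtain ⟨k, hk⟩ := hQ ⟨g, hg⟩
  exact mem_sylow_of_mem_normalizer S (k := k) (by simpa using congrArg Subtype.val hk) (h hg)

theorem eq_one_of_odd_of_mem_sylow (S : Sylow 2 G) {y : G} (hy : Odd (orderOf y))
    (h : y ∈ (S : Subgroup G)) : y = 1 := by
  obtain ⟨k, hk⟩ := S.isPGroup' ⟨y, h⟩
  have h1 : orderOf y ∣ 2 ^ k := orderOf_dvd_of_pow_eq_one (by simpa using congrArg Subtype.val hk)
  exact orderOf_eq_one_iff.1
    (Nat.Coprime.eq_one_of_dvd ((Nat.coprime_two_right.2 hy).pow_right k) h1)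

/-- An element of odd order inverted by an element of a Sylow 2-subgroup it normalises is
trivial. -/
theorem eq_one_of_inverted_of_normalizer (S : Sylow 2 G) {y s : G} (hy : Odd (orderOf y))
    (hs : s ∈ (S : Subgroup G)) (hi : s * y * s⁻¹ = y⁻¹)
    (hn : y ∈ normalizer ((S : Subgroup G) : Set G)) : y = 1 := by
  have h1 : y * s * y⁻¹ ∈ (S : Subgroup G) := (mem_normalizer_iff.1 hn s).1 hs
  have h2 : y * s * y⁻¹ * s⁻¹ = y ^ 2 := by
    have : s * y⁻¹ * s⁻¹ = y := by rw [← conj_inv, hi, inv_inv]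
    calc y * s * y⁻¹ * s⁻¹ = y * (s * y⁻¹ * s⁻¹) := by group
      _ = y ^ 2 := by rw [this, sq]
  have h3 : y ^ 2 ∈ (S : Subgroup G) := h2 ▸ mul_mem h1 (inv_mem hs)
  have h4 : Odd (orderOf (y ^ 2)) := hy.of_dvd_nat (orderOf_pow_dvd 2)
  exact eq_one_of_odd_of_sq_eq_one hy (eq_one_of_odd_of_mem_sylow S h4 h3)

theorem exists_sylow_of_NoR [Finite G] {H : Subgroup G} (hH : NoR H) (hi : ¬ 2 ∣ H.index) :
    ∃ S : Sylow 2 G, (S : Subgroup G) ≤ H ∧ H ≤ normalizer ((S : Subgroup G) : Set G) := by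
  obtain ⟨S, hS⟩ := exists_sylow_le_of_not_dvd_index hi
  have h1 := hH.normal (S.subtype hS)
  rw [Sylow.coe_subtype] at h1
  exact ⟨S, hS, (normal_subgroupOf_iff_le_normalizer hS).1 h1⟩

theorem card_mul_le_of_disjoint [Finite G] {A B U : Subgroup G} (h : A ⊓ B = ⊥) (hA : A ≤ U)
    (hB : B ≤ U) : Nat.card A * Nat.card B ≤ Nat.card U := by
  rw [← Nat.card_prod]
  refine Nat.card_le_card_of_injective
    (fun g : A × B => (⟨g.1 * g.2, mul_mem (hA g.1.2) (hB g.2.2)⟩ : U)) fun a b e => ?_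
  exact mul_injective_of_disjoint (disjoint_iff.2 h) (congrArg Subtype.val e)

end Gen

section Mod

variable {π : Set ℕ} {E V : Type*} [Group E] [CommGroup V] [MulDistribMulAction E V]

/-- The fixed points of a subgroup. -/
def Cf (V : Type*) {E : Type*} [Group E] [CommGroup V] [MulDistribMulAction E V]
    (H : Subgroup E) : Subgroup V where
  carrier := {v | ∀ h ∈ H, h • v = v}
  one_mem' := fun h _ => smul_one h
  mul_mem' := fun {a b} ha hb h hh => by rw [smul_mul', ha h hh, hb h hh]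
  inv_mem' := fun {a} ha h hh => by rw [smul_inv', ha h hh]

theorem mem_Cf {H : Subgroup E} {v : V} : v ∈ Cf V H ↔ H ≤ stabilizer E v := Iff.rfl

/-- The commutator map of an element. -/
def dl (V : Type*) {E : Type*} [Group E] [CommGroup V] [MulDistribMulAction E V] (g : E) :
    V →* V where
  toFun x := g • x * x⁻¹
  map_one' := by simp
  map_mul' a b := by rw [smul_mul', mul_inv]; simp only [mul_assoc, mul_left_comm]

theorem dl_apply (g : E) (x : V) : dl V g x = g • x * x⁻¹ := rfl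

theorem ker_dl (g : E) : (dl V g).ker = fx V g := by
  ext x
  rw [MonoidHom.mem_ker, dl_apply, mul_inv_eq_one, mem_fx]

theorem smul_dl {g c : E} (h : c * g = g * c) (x : V) : c • dl V g x = dl V g (c • x) := by
  rw [dl_apply, dl_apply, smul_mul', smul_inv', ← mul_smul, h, mul_smul]

theorem dl_dl (hsq : ∀ v : V, v * v = 1) (g : E) (x : V) :
    dl V g (dl V g x) = dl V (g * g) x := by
  have hi : ∀ v : V, v⁻¹ = v := fun v => inv_eq_of_mul_eq_one_right (hsq v)
  simp only [dl_apply, hi, smul_mul', mul_smul]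
  calc g • g • x * g • x * (g • x * x) = g • g • x * (g • x * g • x) * x := by
        simp only [mul_assoc]
    _ = g • g • x * x := by rw [hsq, mul_one]

theorem dl_one (x : V) : dl V (1 : E) x = 1 := by rw [dl_apply, one_smul, mul_inv_cancel]

theorem card_fx_conj (g u : E) : Nat.card (fx V (g * u * g⁻¹)) = Nat.card (fx V u) := by
  refine Nat.card_congr ⟨fun x => ⟨g⁻¹ • x, ?_⟩, fun x => ⟨g • x, ?_⟩, fun x => ?_, fun x => ?_⟩
  · have := mem_fx.1 x.2
    rw [mem_fx, ← mul_smul, eq_inv_smul_iff, ← mul_smul, ← mul_assoc, this]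
  · have := mem_fx.1 x.2
    rw [mem_fx, mul_smul, inv_smul_smul, mul_smul, this]
  · simp
  · simp

theorem card_Cf_smul (g : E) (S : Sylow 2 E) :
    Nat.card (Cf V ((g • S : Sylow 2 E) : Subgroup E)) = Nat.card (Cf V (S : Subgroup E)) := by
  have hm : ∀ (g : E) (S : Sylow 2 E) (x : V), x ∈ Cf V (S : Subgroup E) →
      g • x ∈ Cf V ((g • S : Sylow 2 E) : Subgroup E) := by
    intro g S x hx h hh
    rw [Sylow.coe_subgroup_smul, mem_pointwise_smul_iff_inv_smul_mem] at hh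
    have := hx _ hh
    rw [MulAut.smul_def, MulAut.conj_inv_apply, mul_smul, mul_smul, inv_smul_eq_iff] at this
    exact this
  refine Nat.card_congr ⟨fun x => ⟨g⁻¹ • x, ?_⟩, fun x => ⟨g • x, hm g S x x.2⟩, fun x => ?_,
    fun x => ?_⟩
  · have := hm g⁻¹ _ x x.2
    rwa [inv_smul_smul] at this
  · simp
  · simp

theorem isPGroup_of_sq (hsq : ∀ v : V, v * v = 1) : IsPGroup 2 V :=
  fun v => ⟨1, by rw [pow_one, sq, hsq]⟩

/-- For a subgroup `X` invariant under `g`, the order of `X` is the product of the orders of the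
fixed points and of the commutator. -/
theorem card_eq_mul_dl [Finite V] (g : E) (X : Subgroup V) :
    Nat.card X = Nat.card (X ⊓ fx V g : Subgroup V) * Nat.card (X.map (dl V g)) := by
  have h1 := ((dl V g).domRestrict X).ker.card_mul_index
  rw [index_ker, MonoidHom.domRestrict_range, MonoidHom.ker_domRestrict, ker_dl] at h1
  rw [← h1]
  congr 1
  rw [← inf_subgroupOf_left, ← card_map_of_injective (subtype_injective X),
    map_subgroupOf_eq_of_le inf_le_left]

theorem card_le_sq_fx [Finite V] (hsq : ∀ v : V, v * v = 1) {u : E} (hu : u * u = 1) :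
    (dl V u).range ≤ fx V u ∧ Nat.card V = Nat.card (fx V u) * Nat.card (dl V u).range := by
  refine ⟨?_, ?_⟩
  · rintro _ ⟨x, rfl⟩
    rw [← ker_dl, MonoidHom.mem_ker, dl_dl hsq, hu, dl_one]
  · have := card_eq_mul_dl u (⊤ : Subgroup V)
    rwa [card_top, top_inf_eq, ← MonoidHom.range_eq_map] at this

variable [Finite E] [Finite V]

/-- The standing hypothesis on the module. -/
structure Hyp (π : Set ℕ) (E V : Type*) [Group E] [CommGroup V] [MulDistribMulAction E V] :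
    Prop where
  sq : ∀ v : V, v * v = 1
  two : 2 ∉ π
  idx : ∀ v : V, v ≠ 1 → IsPiNum π (stabilizer E v).index
  cl : ∀ v : V, v ≠ 1 → NoR (stabilizer E v)
  real : ∀ y : E, RO y → IsPiNum πᶜ (centralizer ({y} : Set E)).index

omit [Finite V] in
theorem Hyp.exists_sy (h : Hyp π E V) {v : V} (hv : v ≠ 1) :
    ∃ S : Sylow 2 E, (S : Subgroup E) ≤ stabilizer E v ∧
      stabilizer E v ≤ normalizer ((S : Subgroup E) : Set E) :=
  exists_sylow_of_NoR (h.cl v hv) fun hd => h.two (h.idx v hv 2 Nat.prime_two hd)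

omit [Finite V] in
theorem Hyp.sy_eq (h : Hyp π E V) {v : V} (hv : v ≠ 1) {S T : Sylow 2 E}
    (hS : v ∈ Cf V (S : Subgroup E)) (hT : v ∈ Cf V (T : Subgroup E)) : S = T := by
  obtain ⟨R, -, hR⟩ := h.exists_sy hv
  have h1 : ∀ {S : Sylow 2 E}, v ∈ Cf V (S : Subgroup E) → S = R := fun {S} hS =>
    Sylow.ext (S.is_maximal' R.isPGroup'
      (le_sylow_of_le_normalizer R S.isPGroup' ((mem_Cf.1 hS).trans hR))).symm
  rw [h1 hS, h1 hT]

omit [Finite V] in
theorem Hyp.le_norm (h : Hyp π E V) {v : V} (hv : v ≠ 1) {S : Sylow 2 E}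
    (hS : v ∈ Cf V (S : Subgroup E)) :
    stabilizer E v ≤ normalizer ((S : Subgroup E) : Set E) := by
  obtain ⟨R, hR1, hR⟩ := h.exists_sy hv
  rw [h.sy_eq hv hS (mem_Cf.2 hR1)]
  exact hR

omit [Finite V] in
theorem Hyp.mem_sy (h : Hyp π E V) {v : V} (hv : v ≠ 1) {S : Sylow 2 E}
    (hS : v ∈ Cf V (S : Subgroup E)) {g : E} {k : ℕ} (hg : g ^ 2 ^ k = 1) (hgv : g • v = v) :
    g ∈ (S : Subgroup E) :=
  mem_sylow_of_mem_normalizer S hg (h.le_norm hv hS hgv)

omit [Finite E] in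
theorem two_dvd_card [Nontrivial V] (hsq : ∀ v : V, v * v = 1) : 2 ∣ Nat.card V := by
  obtain ⟨n, hn, e⟩ := (isPGroup_of_sq hsq).nontrivial_iff_card.1 inferInstance
  rw [e]; exact dvd_pow_self 2 hn.ne'

omit [Finite E] in
theorem exists_fix [Nontrivial V] (hsq : ∀ v : V, v * v = 1) (S : Sylow 2 E) :
    ∃ v : V, v ≠ 1 ∧ v ∈ Cf V (S : Subgroup E) := by
  obtain ⟨b, hb, hne⟩ := S.isPGroup'.exists_fixed_point_of_prime_dvd_card_of_fixed_point V
    (two_dvd_card hsq) (a := 1) (fun g => smul_one g)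
  exact ⟨b, hne.symm, fun g hg => hb ⟨g, hg⟩⟩

omit [Finite E] in
/-- A second layer of fixed points. -/
theorem exists_fix_two (hsq : ∀ v : V, v * v = 1) (S : Sylow 2 E)
    (hne : Cf V (S : Subgroup E) ≠ ⊤) :
    ∃ w : V, w ∉ Cf V (S : Subgroup E) ∧ ∀ s ∈ (S : Subgroup E), dl V s w ∈ Cf V (S : Subgroup E) := by
  have : QuotientAction (S : Subgroup E) (Cf V (S : Subgroup E)) := ⟨fun b a a' h => by
    rw [← smul_inv', ← smul_mul']
    have : b • (a⁻¹ * a') = a⁻¹ * a' := h b b.2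
    rw [this]; exact h⟩
  have hd : 2 ∣ Nat.card (V ⧸ Cf V (S : Subgroup E)) := by
    have h1 : (Cf V (S : Subgroup E)).index ≠ 1 := fun e => hne (index_eq_one.1 e)
    obtain ⟨n, e⟩ := (isPGroup_of_sq hsq).index (Cf V (S : Subgroup E))
    change 2 ∣ (Cf V (S : Subgroup E)).index
    rw [e] at h1 ⊢
    exact dvd_pow_self 2 fun e => h1 (by rw [e, pow_zero])
  obtain ⟨b, hb, hne⟩ := S.isPGroup'.exists_fixed_point_of_prime_dvd_card_of_fixed_point
    (V ⧸ Cf V (S : Subgroup E)) hd (a := ((1 : V) : V ⧸ Cf V (S : Subgroup E)))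
    (fun g => by rw [MulAction.Quotient.smul_coe, smul_one])
  obtain ⟨w, rfl⟩ := QuotientGroup.mk_surjective b
  refine ⟨w, fun hw => hne ?_, fun s hs => ?_⟩
  · rw [QuotientGroup.eq]; simpa using hw
  · have := hb ⟨s, hs⟩
    rw [MulAction.Quotient.smul_coe, eq_comm, QuotientGroup.eq] at this
    rw [dl_apply, mul_comm]
    exact this

omit [Finite V] in
theorem Hyp.trans (h : Hyp π E V) {y : E} (hy : RO y) {v : V} (hv : v ≠ 1) (g : E) :
    ∃ c ∈ centralizer ({y} : Set E), ∃ s ∈ stabilizer E v, g = c * s :=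
  forall_mul_of_coprime_index ((h.idx v hv).coprime (h.real y hy)).symm g

theorem Hyp.not_mem_normalizer [Nontrivial V] (h : Hyp π E V) {y : E} (hy : RO y) (hy1 : y ≠ 1)
    (S : Sylow 2 E) : y ∉ normalizer ((S : Subgroup E) : Set E) := by
  intro hn
  obtain ⟨s, ⟨j, hj⟩, hs⟩ := exists_two_elem_inverts hy.2
  obtain ⟨T, hT⟩ := exists_sylow_mem_of_pow_eq_one (p := 2) (k := j) (x := s)
    (by rw [← hj, pow_orderOf_eq_one])
  obtain ⟨g, rfl⟩ := exists_smul_eq E S T
  obtain ⟨v, hv, hvS⟩ := exists_fix h.sq S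
  obtain ⟨c, hc, b, hb, rfl⟩ := h.trans hy hv g
  have h1 : b • S = S := Sylow.smul_eq_iff_mem_normalizer.2 (h.le_norm hv hvS hb)
  have h2 : y • S = S := Sylow.smul_eq_iff_mem_normalizer.2 hn
  refine hy1 (eq_one_of_inverted_of_normalizer _ hy.odd hT hs ?_)
  refine Sylow.smul_eq_iff_mem_normalizer.1 ?_
  rw [mul_smul, h1, ← mul_smul, ← mem_cent.1 hc, mul_smul, h2]

theorem Hyp.fpf (h : Hyp π E V) {y : E} (hy : RO y) (hy1 : y ≠ 1) {v : V} (hv : y • v = v) :
    v = 1 := by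
  by_contra hv1
  have : Nontrivial V := ⟨⟨v, 1, hv1⟩⟩
  obtain ⟨S, -, hS⟩ := h.exists_sy hv1
  exact h.not_mem_normalizer hy hy1 S (hS hv)

variable [FaithfulSMul E V]

omit [Finite E] [Finite V] in
theorem eq_one_of_fix {g : E} (h : ∀ v : V, g • v = v) : g = 1 :=
  eq_of_smul_eq_smul (α := V) fun v => by rw [h, one_smul]

omit [Finite V] in
theorem Hyp.pCore_eq_bot (h : Hyp π E V) {p : ℕ} [hp : Fact p.Prime] (hπ : p ∉ π) :
    pCore p E = ⊥ := by
  rw [eq_bot_iff]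
  intro g hg
  refine eq_one_of_fix (V := V) fun v => ?_
  by_cases hv : v = 1
  · rw [hv, smul_one]
  obtain ⟨S, hS⟩ := exists_sylow_le_of_not_dvd_index (p := p) (C := stabilizer E v)
    fun hd => hπ (h.idx v hv p hp.out hd)
  exact hS (pCore_le_sylow S hg)

omit [Finite V] in
theorem Hyp.exists_inverted (h : Hyp π E V) {u : E} (hu : u * u = 1) (hu1 : u ≠ 1) :
    ∃ y : E, y ≠ 1 ∧ (orderOf y).Prime ∧ RO y ∧ u * y * u⁻¹ = y⁻¹ := by
  obtain ⟨x, q, hq, hq2, ho, hi⟩ := exists_inverted_of_not_mem_pCore hu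
    (by rw [h.pCore_eq_bot h.two]; exact hu1)
  refine ⟨x, fun e => ?_, ho ▸ hq, ⟨⟨q, 1, hq, hq2, by rw [ho, pow_one]⟩, isConj_iff.2 ⟨u, hi⟩⟩, hi⟩
  rw [e, orderOf_one] at ho
  exact hq.ne_one ho.symm

theorem Hyp.card_fx (h : Hyp π E V) {u : E} (hu : u * u = 1) (hu1 : u ≠ 1) :
    Nat.card (fx V u) * Nat.card (fx V u) = Nat.card V ∧ (dl V u).range = fx V u := by
  obtain ⟨y, hy1, -, hy, hi⟩ := h.exists_inverted hu hu1
  obtain ⟨h1, h2⟩ := card_le_sq_fx h.sq hu
  have h3 : fx V u ⊓ fx V (y * u * y⁻¹) = ⊥ := by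
    rw [eq_bot_iff]
    rintro x ⟨hx1, hx2⟩
    have e : y * u * y⁻¹ * u = y ^ 2 := by
      have h4 : u * y⁻¹ * u⁻¹ = y := by rw [← conj_inv, hi, inv_inv]
      have h5 : u⁻¹ = u := inv_eq_of_mul_eq_one_right hu
      calc y * u * y⁻¹ * u = y * (u * y⁻¹ * u⁻¹) := by rw [h5]; group
        _ = y ^ 2 := by rw [h4, pow_two]
    have h6 : y ^ 2 ∈ stabilizer E x := e ▸ mul_mem (mem_fx.1 hx2) (mem_fx.1 hx1)
    have h7 : y ∈ zpowers (y ^ 2) :=
      mem_zpowers_pow_iff.2 (Nat.coprime_two_left.2 hy.odd)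
    exact h.fpf hy hy1 ((zpowers_le.2 h6) h7)
  have h4 := card_mul_le_of_disjoint h3 le_top le_top
  rw [card_top, card_fx_conj] at h4
  have h5 := card_le_of_le h1
  have h6 : Nat.card (fx V u) ≤ Nat.card (dl V u).range :=
    Nat.le_of_mul_le_mul_left (h2 ▸ h4) Nat.card_pos
  exact ⟨by rw [h2, le_antisymm h5 h6], eq_of_le_of_card_ge h1 h6⟩

omit [FaithfulSMul E V] in
/-- The nonzero vectors are partitioned by the fixed spaces of the Sylow 2-subgroups. -/
theorem Hyp.card_sub_one (h : Hyp π E V) (S : Sylow 2 E) :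
    Nat.card V - 1 = Nat.card (Sylow 2 E) * (Nat.card (Cf V (S : Subgroup E)) - 1) := by
  classical
  have := Fintype.ofFinite (Sylow 2 E)
  have h1 : Nat.card (Σ T : Sylow 2 E, ((Cf V (T : Subgroup E) : Set V) \ {1} : Set V)) =
      Nat.card (((⊤ : Subgroup V) : Set V) \ {1} : Set V) := by
    refine Nat.card_congr (Equiv.ofBijective (fun x => ⟨x.2, mem_top _, x.2.2.2⟩) ⟨?_, ?_⟩)
    · rintro ⟨T, x, hx⟩ ⟨T', x', hx'⟩ e
      obtain rfl : x = x' := congrArg Subtype.val e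
      obtain rfl : T = T' := h.sy_eq hx.2 hx.1 hx'.1
      rfl
    · rintro ⟨x, -, hx⟩
      obtain ⟨T, hT, -⟩ := h.exists_sy hx
      exact ⟨⟨T, x, mem_Cf.2 hT, hx⟩, rfl⟩
  rw [Nat.card_sigma, Nat.card_coe_set_eq, ncard_diff_one, card_top] at h1
  rw [← h1, Finset.sum_congr rfl (g := fun _ => Nat.card (Cf V (S : Subgroup E)) - 1),
    Finset.sum_const, Finset.card_univ, smul_eq_mul, Fintype.card_eq_nat_card]
  intro T _
  obtain ⟨g, rfl⟩ := exists_smul_eq E S T
  rw [Nat.card_coe_set_eq, ncard_diff_one, card_Cf_smul]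

end Mod

end Cfsg.Lib.RealDisc
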