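import Cfsg.Agent.RealDisc.Mod
import Cfsg.Agent.Solv.BHM
import Cfsg.Agent.Local.Dihedral

/-!
Groups whose real class sizes are `π`-numbers or `π'`-numbers.
-/

set_option autoImplicit false

open Subgroup MulAction
open scoped Pointwise

namespace Cfsg.Lib.RealDisc

open Cfsg.Lib.Solv Cfsg.Lib.Solv.ClassSize Cfsg.Lib.Solv.Real Cfsg.Lib.Block.TwoGood

universe u

variable {G : Type*} [Group G] [Finite G] {π : Set ℕ}

theorem solvable_of_hom {V : Type*} [CommGroup V] [Finite V] [Nontrivial V] (φ : G →* MulAut V)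
    (hsq : ∀ v : V, v * v = 1) (h2 : 2 ∉ π)
    (hst : ∀ v : V, v ≠ 1 → IsPiNum π ((stabilizer (MulAut V) v).comap φ).index ∧
      NoR ((stabilizer (MulAut V) v).comap φ))
    (hre : ∀ y : G, RO y → IsPiNum πᶜ (centralizer ({y} : Set G)).index) :
    Group.IsSolvable G := by
  have e : ∀ v : V, stabilizer φ.range v =
      ((stabilizer (MulAut V) v).comap φ).map φ.rangeRestrict := fun v => by
    ext ⟨_, g, rfl⟩
    refine ⟨fun h => ⟨g, h, rfl⟩, ?_⟩
    rintro ⟨g', h, e⟩
    rw [← e]; exact h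
  have h : Hyp π φ.range V :=
    { sq := hsq
      two := h2
      idx := fun v hv => by
        rw [e]
        exact (hst v hv).1.of_dvd (index_map_dvd _ φ.rangeRestrict_surjective)
      cl := fun v hv => by rw [e]; exact (hst v hv).2.map _
      real := fun y hy => by
        obtain ⟨x, rfl, hx⟩ := hy.lift φ.rangeRestrict φ.rangeRestrict_surjective
        exact (hre x hx).of_dvd (index_cent_map_dvd _ φ.rangeRestrict_surjective x) }
  obtain ⟨v, hv⟩ := exists_ne (1 : V)
  have h1 : NoR φ.ker := (hst v hv).2.of_le fun g hg => by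
    rw [mem_comap, MonoidHom.mem_ker.1 hg]; exact one_mem _
  have := h.solvable
  exact Cor.isSolvable_of_normal_quotient φ.ker h1.solvable
    (Group.isSolvable_of_surjective
      (f := (QuotientGroup.quotientKerEquivRange φ).symm.toMonoidHom) (MulEquiv.surjective _))

/-- Real elements lift along a surjection with kernel of odd order. -/
theorem exists_real_lift_odd {H : Type*} [Group H] (f : G →* H) (hf : Function.Surjective f)
    (hk : Odd (Nat.card f.ker)) {y : H} (hy : IsConj y y⁻¹) : ∃ x, f x = y ∧ IsConj x x⁻¹ := by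
  classical
  have : Finite H := Finite.of_surjective f hf
  obtain ⟨s', ⟨j', hj'⟩, hs'⟩ := exists_two_elem_inverts hy
  obtain ⟨s, rfl, j, hj⟩ := exists_lift_prime_pow f hf Nat.prime_two hj'
  have hs2 : (f s)⁻¹ * y⁻¹ * f s = y := by rw [← hs']; group
  let σ : Equiv.Perm {x : G // f x = y} :=
    { toFun := fun x => ⟨(s * x * s⁻¹)⁻¹, by
        rw [map_inv, map_mul, map_mul, map_inv, x.2, hs', inv_inv]⟩
      invFun := fun x => ⟨s⁻¹ * (x : G)⁻¹ * s, by
        rw [map_mul, map_mul, map_inv, map_inv, x.2, hs2]⟩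
      left_inv := fun x => Subtype.ext (by simp only; group)
      right_inv := fun x => Subtype.ext (by simp only; group) }
  have h1 : ∀ (m : ℕ) (x : {x : G // f x = y}),
      (((σ ^ 2) ^ m) x : G) = (s ^ 2) ^ m * x * ((s ^ 2) ^ m)⁻¹ := by
    intro m
    induction m with
    | zero => intro x; simp
    | succ m ih =>
      intro x
      rw [pow_succ (σ ^ 2), Equiv.Perm.mul_apply, ih, pow_two σ, Equiv.Perm.mul_apply]
      change _ * (s * (s * x * s⁻¹)⁻¹ * s⁻¹)⁻¹ * _ = _
      rw [pow_succ (s ^ 2)]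
      generalize (s ^ 2) ^ m = r
      rw [pow_two]
      simp only [mul_inv_rev, inv_inv, mul_assoc]
  have h2 : σ ^ 2 ^ (j + 1) = 1 := by
    ext x
    rw [pow_succ', pow_mul, h1, ← pow_mul, mul_comm 2, pow_mul, ← hj, pow_orderOf_eq_one]
    simp
  have := Fintype.ofFinite {x : G // f x = y}
  have h3 : ¬ 2 ∣ Fintype.card {x : G // f x = y} := by
    obtain ⟨x₀, rfl⟩ := hf y
    have e : {x : G // f x = f x₀} ≃ f.ker :=
      { toFun := fun x => ⟨x₀⁻¹ * x, by rw [MonoidHom.mem_ker, map_mul, map_inv, x.2]; simp⟩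
        invFun := fun k => ⟨x₀ * k, by rw [map_mul, MonoidHom.mem_ker.1 k.2, mul_one]⟩
        left_inv := fun x => Subtype.ext (by simp)
        right_inv := fun x => Subtype.ext (by simp) }
    rw [← Nat.card_eq_fintype_card, Nat.card_congr e, ← even_iff_two_dvd, Nat.not_even_iff_odd]
    exact hk
  obtain ⟨x, hx⟩ := Equiv.Perm.exists_fixed_point_of_prime h3 h2
  exact ⟨x, x.2, isConj_iff.2 ⟨s, inv_eq_iff_eq_inv.1 (congrArg Subtype.val hx)⟩⟩

omit [Finite G] in
theorem eq_one_of_mul_mem {x e : G} (hx : ¬ 2 ∣ (centralizer ({x} : Set G)).index)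
    (he : e * e = 1) (h : ∀ z, IsConj x z → IsConj x (e * z)) : e = 1 := by
  by_contra he1
  rw [← ncard_setOf_isConj] at hx
  exact hx (Perm.Schur.dvd_ncard_of_mul_mem Nat.prime_two (Local.orderOf_two_of_mul_self he he1) h)

theorem bhm_step {x y : G}
    (hc : (centralizer ({x} : Set G)).index.Coprime (centralizer ({y} : Set G)).index)
    (he : (centralizer ({x * y} : Set G)).index ≤ (centralizer ({y} : Set G)).index) {x' y' : G}
    (hx : IsConj x x') (hy : IsConj y y') : IsConj y (x'⁻¹ * x * y') := by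
  have h1 : ∀ {a b : G}, IsConj x a → IsConj y b → IsConj (x * y) (a * b) := by
    intro a b ha hb
    obtain ⟨g, rfl⟩ := isConj_iff.1 ha
    have h2 : IsConj y (g⁻¹ * b * g) := hb.trans (isConj_iff.2 ⟨g⁻¹, by rw [inv_inv]⟩)
    exact (isConj_mul_of_coprime hc h2).trans (isConj_iff.2 ⟨g, by group⟩)
  have h3 : (fun b => x' * b) '' {z | IsConj y z} = {z | IsConj (x * y) z} := by
    refine Set.eq_of_subset_of_ncard_le ?_ ?_ (Set.toFinite _)
    · rintro _ ⟨b, hb, rfl⟩; exact h1 hx hb
    · rw [Set.ncard_image_of_injective _ (mul_right_injective x'), ncard_setOf_isConj,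
        ncard_setOf_isConj]
      exact he
  have h4 : x * y' ∈ (fun b => x' * b) '' {z | IsConj y z} := h3 ▸ h1 (IsConj.refl x) hy
  obtain ⟨b, hb, e⟩ := h4
  rw [mul_assoc, ← e, inv_mul_cancel_left]
  exact hb

theorem index_mul_dvd {x y : G}
    (hc : (centralizer ({x} : Set G)).index.Coprime (centralizer ({y} : Set G)).index) :
    (centralizer ({x * y} : Set G)).index ∣
      (centralizer ({x} : Set G)).index * (centralizer ({y} : Set G)).index :=
  index_inf_of_coprime hc ▸ index_dvd_of_le (inf_cent_le_cent_mul x y)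

omit [Finite G] in
theorem isConj_inv_of_mul_self {x : G} (h : x * x = 1) : IsConj x x⁻¹ := by
  rw [inv_eq_of_mul_eq_one_right h]

/-- Every real class size is a `π`-number or a `π'`-number. -/
structure GH (π : Set ℕ) (G : Type*) [Group G] : Prop where
  two : 2 ∉ π
  split : ∀ x : G, IsConj x x⁻¹ → IsPiNum π (centralizer ({x} : Set G)).index ∨
    IsPiNum πᶜ (centralizer ({x} : Set G)).index

omit [Finite G] in
theorem GH.odd (h : GH π G) {n : ℕ} (hn : IsPiNum π n) : ¬ 2 ∣ n :=
  fun hd => h.two (hn 2 Nat.prime_two hd)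

theorem GH.sq (h : GH π G) {t : G} (ht : IsConj t t⁻¹)
    (hπ : IsPiNum π (centralizer ({t} : Set G)).index) : t * t = 1 := by
  rw [← pow_two]
  exact sq_eq_one_of_odd_index ht (by
    rw [← Nat.not_even_iff_odd, even_iff_two_dvd]; exact h.odd hπ)

theorem GH.compl (h : GH π G) {x : G} (hx : IsConj x x⁻¹) (h2 : x * x ≠ 1) :
    IsPiNum πᶜ (centralizer ({x} : Set G)).index :=
  (h.split x hx).resolve_left fun hπ => h2 (h.sq hx hπ)

theorem GH.ro (h : GH π G) {y : G} (hy : RO y) : IsPiNum πᶜ (centralizer ({y} : Set G)).index := by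
  by_cases h2 : y * y = 1
  · rw [eq_one_of_odd_of_sq_eq_one hy.odd (by rw [pow_two, h2]),
      index_cent_eq_one_iff.2 (one_mem _)]
    exact IsPiNum.one _
  · exact h.compl hy.2 h2

theorem GH.noR (h : GH π G) {t : G} (ht : t * t = 1) (htc : t ∉ center G)
    (hπ : IsPiNum π (centralizer ({t} : Set G)).index) : NoR (centralizer ({t} : Set G)) := by
  rintro ⟨y, hy⟩ hr
  by_contra hy1
  have ho : Odd (orderOf y) := by have := hr.odd; rwa [← orderOf_coe] at this
  obtain ⟨⟨s, hs⟩, e⟩ := isConj_iff.1 hr.2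
  have e' : s * y * s⁻¹ = y⁻¹ := congrArg Subtype.val e
  have hc : Commute y t := mem_cent.1 hy
  have h1 : IsConj (y * t) (y * t)⁻¹ := isConj_iff.2 ⟨s, by
    rw [show s * (y * t) * s⁻¹ = s * y * s⁻¹ * (s * t * s⁻¹) by group, e', mem_cent_iff_conj.1 hs,
      hc.eq, mul_inv_rev, inv_eq_of_mul_eq_one_right ht]⟩
  have h2 : y * t * (y * t) ≠ 1 := fun e => hy1 (Subtype.ext (eq_one_of_odd_of_sq_eq_one ho (by
    rw [← pow_two, hc.mul_pow, pow_two t, ht, mul_one] at e; exact e)))
  have h3 := index_cent_dvd_mul_right hc ((Nat.coprime_two_right.2 ho).coprime_dvd_right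
    (orderOf_dvd_of_pow_eq_one (by rw [pow_two, ht])))
  exact htc (index_cent_eq_one_iff.1 (hπ.eq_one ((h.compl h1 h2).of_dvd h3)))

theorem GH.map (h : GH π G) {H : Type*} [Group H] (f : G →* H) (hf : Function.Surjective f)
    (hk : Odd (Nat.card f.ker)) : GH π H where
  two := h.two
  split y hy := by
    obtain ⟨x, rfl, hx⟩ := exists_real_lift_odd f hf hk hy
    exact (h.split x hx).imp (fun h => h.of_dvd (index_cent_map_dvd f hf x))
      fun h => h.of_dvd (index_cent_map_dvd f hf x)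

theorem GH.commute (h : GH π G) (hO : pPrimeCore 2 G = ⊥) {t : G} (ht : t * t = 1)
    (hπ : IsPiNum π (centralizer ({t} : Set G)).index) {a b : G} (ha : IsConj t a)
    (hb : IsConj t b) : a * b = b * a := by
  have hsq : ∀ {a : G}, IsConj t a → a * a = 1 := fun {a} ha => by
    obtain ⟨g, rfl⟩ := isConj_iff.1 ha
    rw [conj_mul, ht]; simp
  have hinv : ∀ {a : G}, IsConj t a → a⁻¹ = a := fun ha => inv_eq_of_mul_eq_one_right (hsq ha)
  suffices h2 : a * b * (a * b) = 1 by
    rw [← inv_eq_of_mul_eq_one_right h2, mul_inv_rev, hinv ha, hinv hb]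
  by_contra h2
  have hi := Local.dih_inverts (hsq ha) (hsq hb)
  have hx := h.compl (isConj_iff.2 ⟨a, hi⟩) h2
  have haπ : IsPiNum π (centralizer ({a} : Set G)).index := index_cent_of_isConj ha ▸ hπ
  have h3 : ∀ {c : G}, IsConj t c → c * (a * b) * c⁻¹ = (a * b)⁻¹ := fun {c} hc => by
    obtain ⟨k, rfl⟩ := isConj_iff.1 (ha.symm.trans hc)
    obtain ⟨u, hu, v, hv, rfl⟩ := forall_mul_of_coprime_index (haπ.coprime hx).symm k
    have h4 : u * v * a * (u * v)⁻¹ = u * a * u⁻¹ := by
      rw [show u * v * a * (u * v)⁻¹ = u * (v * a * v⁻¹) * u⁻¹ by group, mem_cent_iff_conj.1 hv]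
    have h5 := mem_cent_iff_conj.1 (inv_mem hu)
    rw [h4, show u * a * u⁻¹ * (a * b) * (u * a * u⁻¹)⁻¹ =
      u * (a * (u⁻¹ * (a * b) * u⁻¹⁻¹) * a⁻¹) * u⁻¹ by group, h5, hi, ← conj_inv,
      mem_cent_iff_conj.1 hu]
  have h4 : ∀ g : G, g * (a * b) * g⁻¹ * (a * b) = a * b * (g * (a * b) * g⁻¹) := fun g => by
    have h5 := h3 (ha.trans (isConj_iff.2 ⟨g, rfl⟩))
    have h6 := h3 (hb.trans (isConj_iff.2 ⟨g, rfl⟩))
    rw [← mul_inv_eq_iff_eq_mul, ← conj_mul (b := g)]
    generalize g * a * g⁻¹ = a' at *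
    generalize g * b * g⁻¹ = b' at *
    rw [show a' * b' * (a * b) * (a' * b')⁻¹ = a' * (b' * (a * b) * b'⁻¹) * a'⁻¹ by group, h6,
      ← conj_inv, h5, inv_inv]
  have h5 : IsMulCommutative (normalClosure ({a * b} : Set G)) := by
    apply isMulCommutative_closure
    intro p hp q hq
    obtain ⟨_, rfl, hp⟩ := Group.mem_conjugatesOfSet_iff.1 hp
    obtain ⟨_, rfl, hq⟩ := Group.mem_conjugatesOfSet_iff.1 hq
    obtain ⟨g, rfl⟩ := isConj_iff.1 hp
    obtain ⟨k, rfl⟩ := isConj_iff.1 hq
    have := h4 (k⁻¹ * g)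
    calc _ = k * (k⁻¹ * g * (a * b) * (k⁻¹ * g)⁻¹ * (a * b)) * k⁻¹ := by group
      _ = _ := by rw [this]; group
  have h6 : a * b ∈ pCore 2 G := by
    rw [← fitting_eq_pCore_of_pPrimeCore_eq_bot hO]
    exact le_fitting inferInstance (isNilpotent_of_isMulCommutative _)
      (subset_normalClosure (Set.mem_singleton _))
  obtain ⟨S, hS⟩ := exists_sylow_le_of_not_dvd_index (h.odd haπ)
  have h7 := mem_cent_iff_conj.1 (mem_cent_comm.1 (hS (pCore_le_sylow S h6)))
  rw [hi] at h7
  exact h2 (by nth_rw 1 [← h7]; rw [inv_mul_cancel])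

theorem GH.solvable_core (h : GH π G) (hO : pPrimeCore 2 G = ⊥) {t : G} (ht : t * t = 1)
    (htc : t ∉ center G) (hπ : IsPiNum π (centralizer ({t} : Set G)).index) :
    Group.IsSolvable G := by
  have hsq : ∀ {a : G}, IsConj t a → a * a = 1 := fun {a} ha => by
    obtain ⟨g, rfl⟩ := isConj_iff.1 ha
    rw [conj_mul, ht]; simp
  have hU : IsMulCommutative (closure {a | IsConj t a}) :=
    isMulCommutative_closure fun a ha b hb => h.commute hO ht hπ ha hb
  have hUc : ∀ {a b : G}, a ∈ closure {a | IsConj t a} → b ∈ closure {a | IsConj t a} →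
      a * b = b * a := fun ha hb => setLike_mul_comm ha hb
  have hU2 : ∀ {a : G}, a ∈ closure {a | IsConj t a} → a * a = 1 := fun {a} ha => by
    induction ha using closure_induction with
    | mem x hx => exact hsq hx
    | one => rw [mul_one]
    | mul x y hx hy h1 h2 =>
      rw [mul_assoc, ← mul_assoc y, hUc hy hx, mul_assoc, h2, mul_one, h1]
    | inv x hx h1 => rw [← mul_inv_rev, h1, inv_one]
  let P : Set G := {x | ∃ a b, IsConj t a ∧ IsConj t b ∧ x = a * b}
  have hWU : closure P ≤ closure {a | IsConj t a} := (closure_le _).2 (by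
    rintro _ ⟨a, b, ha, hb, rfl⟩
    exact mul_mem (subset_closure ha) (subset_closure hb))
  have hWn : (closure P).Normal := ⟨fun w hw g => by
    induction hw using closure_induction with
    | mem x hx =>
      obtain ⟨a, b, ha, hb, rfl⟩ := hx
      exact subset_closure ⟨_, _, ha.trans (isConj_iff.2 ⟨g, rfl⟩),
        hb.trans (isConj_iff.2 ⟨g, rfl⟩), conj_mul.symm⟩
    | one => simp
    | mul x y _ _ h1 h2 => rw [← conj_mul]; exact mul_mem h1 h2
    | inv x _ h1 => rw [← conj_inv]; exact inv_mem h1⟩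
  have htU : t ∈ closure {a | IsConj t a} := subset_closure (IsConj.refl t)
  have hWπ : ∀ w ∈ closure P, IsPiNum π (centralizer ({w} : Set G)).index := fun w hw => by
    refine (h.split w (isConj_inv_of_mul_self (hU2 (hWU hw)))).elim id fun hw' => ?_
    have hco := hπ.coprime hw'
    rcases h.split (w * t) (isConj_inv_of_mul_self (hU2 (mul_mem (hWU hw) htU))) with h1 | h1
    · have h2 := (h1.coprime hw').dvd_of_dvd_mul_left (index_mul_dvd hco.symm)
      have h3 : w ∈ center G := mem_center_iff.2 fun g => by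
        have h4 : g * w * g⁻¹ ∈ closure {a | IsConj t a} := hWU (hWn.conj_mem w hw g)
        have h5 := eq_one_of_mul_mem (h.odd hπ) (hU2 (mul_mem (inv_mem h4) (hWU hw)))
          fun z hz => bhm_step hco.symm (Nat.le_of_dvd (Nat.pos_of_ne_zero index_ne_zero_of_finite)
            h2) (isConj_iff.2 ⟨g, rfl⟩) hz
        rw [inv_mul_eq_one, mul_inv_eq_iff_eq_mul] at h5
        exact h5
      rw [index_cent_eq_one_iff.2 h3]
      exact IsPiNum.one _
    · rw [hUc (hWU hw) htU] at h1
      have h2 := (hπ.coprime h1).symm.dvd_of_dvd_mul_left (index_mul_dvd hco)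
      have h3 : ∀ {a z : G}, IsConj t a → IsConj w z → IsConj w (a * t * z) := fun {a z} ha hz => by
        have := bhm_step hco (Nat.le_of_dvd (Nat.pos_of_ne_zero index_ne_zero_of_finite) h2) ha hz
        rwa [inv_eq_of_mul_eq_one_right (hsq ha)] at this
      have h4 : ∀ e ∈ closure P, ∀ z, IsConj w z → IsConj w (e * z) := fun e he => by
        induction he using closure_induction with
        | mem x hx =>
          obtain ⟨a, b, ha, hb, rfl⟩ := hx
          intro z hz
          have := h3 ha (h3 hb hz)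
          rwa [hUc (subset_closure hb) htU, show a * t * (t * b * z) = a * (t * t) * b * z by group,
            ht, mul_one] at this
        | one => intro z hz; rwa [one_mul]
        | mul x y _ _ h1 h2 => intro z hz; rw [mul_assoc]; exact h1 _ (h2 z hz)
        | inv x hx h1 => rw [inv_eq_of_mul_eq_one_right (hU2 (hWU hx))]; exact h1
      have h5 := h4 w hw w (IsConj.refl w)
      rw [hU2 (hWU hw), isConj_one_left] at h5
      rw [h5, index_cent_eq_one_iff.2 (one_mem _)]
      exact IsPiNum.one _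
  have key : ∀ {w g : G}, w ∈ closure {a | IsConj t a} → g * w * g⁻¹ ∈ closure {a | IsConj t a} →
      IsPiNum π (centralizer ({w} : Set G)).index → g * w * g⁻¹ * w⁻¹ ∈ center G →
      g ∈ centralizer ({w} : Set G) := fun {w g} hw hg hwπ hz => by
    have h1 := eq_one_of_mul_mem (h.odd hwπ) (hU2 (mul_mem hg (inv_mem hw))) fun z hz' => by
      obtain ⟨k, rfl⟩ := isConj_iff.1 hz'
      refine isConj_iff.2 ⟨k * g, ?_⟩
      rw [← mul_assoc, ← mul_assoc, ← mem_center_iff.1 hz k]
      group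
    exact mem_cent_iff_conj.2 (mul_inv_eq_one.1 h1)
  obtain ⟨g₀, hg₀⟩ : ∃ g₀, g₀ ∉ centralizer ({t} : Set G) := by
    by_contra hcon
    push Not at hcon
    exact htc (cent_eq_top_iff.1 (eq_top_iff.2 fun g _ => hcon g))
  let f := QuotientGroup.mk' (center G)
  let W := (closure P).map f
  have : W.Normal := hWn.map f (QuotientGroup.mk'_surjective _)
  let _ : CommGroup W :=
    { (inferInstance : Group W) with
      mul_comm := by
        rintro ⟨_, a, ha, rfl⟩ ⟨_, b, hb, rfl⟩
        apply Subtype.ext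
        change f a * f b = f b * f a
        rw [← map_mul, hUc (hWU ha) (hWU hb), map_mul] }
  have hw₀ : g₀ * t * g₀⁻¹ * t ∈ closure P :=
    subset_closure ⟨_, _, isConj_iff.2 ⟨g₀, rfl⟩, IsConj.refl t, rfl⟩
  have : Nontrivial W := ⟨⟨⟨_, _, hw₀, rfl⟩, 1, fun e => hg₀ (key htU
    (subset_closure (isConj_iff.2 ⟨g₀, rfl⟩)) hπ (by
      rw [inv_eq_of_mul_eq_one_right ht]
      exact (QuotientGroup.eq_one_iff _).1 (congrArg Subtype.val e)))⟩⟩
  refine solvable_of_hom (π := π) (V := W) ((MulAut.conjNormal (H := W)).comp f) ?_ h.two ?_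
    fun y hy => h.ro hy
  · rintro ⟨_, a, ha, rfl⟩
    apply Subtype.ext
    change f a * f a = 1
    rw [← map_mul, hU2 (hWU ha), map_one]
  · rintro ⟨_, w, hw, rfl⟩ hv
    have hwc : w ∉ center G := fun hc => hv (Subtype.ext ((QuotientGroup.eq_one_iff _).2 hc))
    have e : (stabilizer (MulAut W) (⟨f w, w, hw, rfl⟩ : W)).comap
        ((MulAut.conjNormal (H := W)).comp f) = centralizer ({w} : Set G) := by
      ext g
      rw [mem_comap, mem_stabilizer_iff, Subtype.ext_iff]
      change f g * f w * (f g)⁻¹ = f w ↔ _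
      refine ⟨fun hg => key (hWU hw) (hWU (hWn.conj_mem w hw g)) (hWπ w hw) ?_, fun hg => ?_⟩
      · rw [← QuotientGroup.eq_one_iff]
        change f _ = 1
        rw [map_mul, map_mul, map_mul, map_inv, map_inv, hg, mul_inv_cancel]
      · rw [← map_inv, ← map_mul, ← map_mul, mem_cent_iff_conj.1 hg]
    rw [e]
    exact ⟨hWπ w hw, h.noR (hU2 (hWU hw)) hwc (hWπ w hw)⟩

theorem GH.solvable (h : GH π G) {t : G} (ht : IsConj t t⁻¹) (htc : t ∉ center G)
    (hπ : IsPiNum π (centralizer ({t} : Set G)).index) : Group.IsSolvable G := by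
  have ht2 := h.sq ht hπ
  let f := QuotientGroup.mk' (pPrimeCore 2 G)
  have hf : Function.Surjective f := QuotientGroup.mk'_surjective _
  have hodd : Odd (Nat.card (pPrimeCore 2 G)) := odd_card_oddCore G
  refine Cor.isSolvable_of_normal_odd (pPrimeCore 2 G) hodd ?_
  by_cases hc : f t ∈ center (G ⧸ pPrimeCore 2 G)
  · have h1 : (centralizer ({t} : Set G)).map f = ⊤ := by
      rw [eq_top_iff]
      intro x _
      obtain ⟨g, rfl⟩ := hf x
      have h2 : g * t * g⁻¹ * (g * t * g⁻¹) = 1 := by rw [conj_mul, ht2]; simp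
      have h3 : t * (g * t * g⁻¹) ∈ pPrimeCore 2 G := by
        rw [← QuotientGroup.eq_one_iff]
        change f _ = 1
        rw [map_mul, map_mul, map_mul, map_inv, mem_center_iff.1 hc, mul_inv_cancel_right,
          ← map_mul, ht2, map_one]
      obtain ⟨m, hm⟩ := hodd.of_dvd_nat (orderOf_dvd_natCard _ h3)
      have h4 := Local.dih_conj (Local.dih_inverts ht2 h2) m
      have h5 : (t * (g * t * g⁻¹)) ^ (-(2 * (m : ℤ))) = t * (g * t * g⁻¹) := by
        have h6 : (t * (g * t * g⁻¹)) ^ (2 * (m : ℤ) + 1) = 1 := by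
          have := pow_orderOf_eq_one (t * (g * t * g⁻¹))
          rw [hm, ← zpow_natCast] at this
          exact_mod_cast this
        rw [show -(2 * (m : ℤ)) = 1 - (2 * m + 1) by ring, zpow_sub, h6, zpow_one, inv_one, mul_one]
      rw [h5, ← mul_assoc t t, ht2, one_mul] at h4
      refine ⟨((t * (g * t * g⁻¹)) ^ (m : ℤ))⁻¹ * g, mem_cent_iff_conj.2 ?_, ?_⟩
      · generalize (t * (g * t * g⁻¹)) ^ (m : ℤ) = r at h4
        rw [show r⁻¹ * g * t * (r⁻¹ * g)⁻¹ = r⁻¹ * (g * t * g⁻¹) * r by group, ← h4]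
        group
      · have h7 : f ((t * (g * t * g⁻¹)) ^ (m : ℤ)) = 1 :=
          (QuotientGroup.eq_one_iff _).2 (zpow_mem h3 m)
        rw [map_mul, map_inv, h7, inv_one, one_mul]
    have h2 := (h.noR ht2 htc hπ).map f
    rw [h1] at h2
    exact (h2.of_surj (⊤ : Subgroup (G ⧸ pPrimeCore 2 G)).subtype fun x => ⟨⟨x, mem_top x⟩, rfl⟩).solvable
  · refine (h.map f hf (by rwa [QuotientGroup.ker_mk'])).solvable_core
      (pPrimeCore_quotient_pPrimeCore 2 G) (by rw [← map_mul, ht2, map_one]) hc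
      (hπ.of_dvd (index_cent_map_dvd f hf t))

end Cfsg.Lib.RealDisc
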