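import Cfsg.Agent.RealDisc.Small
import Cfsg.Agent.S2904
import Cfsg.Agent.Solv.NilpotentHall
import Cfsg.Agent.Solv.CyclicP

/-!
A linear group over `F₂` with 2-closed vector stabilisers of odd `π`-index in which the real
elements of odd order have `π'`-index is solvable.
-/

set_option autoImplicit false

open Subgroup MulAction
open scoped Pointwise

namespace Cfsg.Lib.RealDisc

open Cfsg.Lib.Solv Cfsg.Lib.Solv.ClassSize Cfsg.Lib.Solv.Real Cfsg.Lib.Block.TwoGood

universe u

section Mod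

variable {π : Set ℕ} {E V : Type*} [Group E] [CommGroup V] [MulDistribMulAction E V]
  [Finite E] [Finite V] [FaithfulSMul E V]

omit [Finite V] [FaithfulSMul E V] in
theorem Hyp.normal (h : Hyp π E V) (N : Subgroup E) [N.Normal] : Hyp π N V where
  sq := h.sq
  two := h.two
  idx v hv := (h.idx v hv).of_dvd (relIndex_dvd_index_of_normal_right (stabilizer E v) N)
  cl v hv := (h.cl v hv).of_inj
    ((N.subtype.domRestrict (stabilizer N v)).codRestrict (stabilizer E v) fun x => x.2)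
    fun a b e => Subtype.ext (Subtype.ext (congrArg (fun x : stabilizer E v => (x : E)) e))
  real y hy := (h.real y (hy.map_inj N.subtype (subtype_injective N))).of_dvd
    (index_cent_subtype_dvd_of_normal y)

omit [Finite E] [Finite V] in
theorem eq_one_of_irr {x t : E} (hx : Irr V x) (ht : t ∈ centralizer ({x} : Set E)) {v : V}
    (hv : v ≠ 1) (htv : t • v = v) : t = 1 := by
  rcases hx (fx V t) (fun w hw => by
    rw [mem_fx, ← mul_smul, mem_cent.1 ht, mul_smul, mem_fx.1 hw]) with e | e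
  · exact (hv (mem_bot.1 (e ▸ (mem_fx.2 htv)))).elim
  · exact eq_one_of_fx_eq_top e

theorem Hyp.not_invol_of_irr [Nontrivial V] (h : Hyp π E V) {x t : E} (hx : Irr V x)
    (ht : t ∈ centralizer ({x} : Set E)) : orderOf t ≠ 2 := fun ho => by
  obtain ⟨h2, h1⟩ := mul_self_of_orderOf ho
  have h3 := (h.card_fx h2 h1).1
  have h4 : fx V t ≠ ⊥ := fun e => by
    rw [e, card_bot] at h3
    have := Finite.one_lt_card (α := V)
    omega
  obtain ⟨⟨v, hv⟩, hv1⟩ := ne_bot_iff_exists_ne_one.1 h4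
  exact h1 (eq_one_of_irr hx ht (fun e => hv1 (Subtype.ext e)) hv)

/-- A real element of primitive prime order. -/
theorem Hyp.exists_real_irr [Nontrivial V] (h : Hyp π E V) {n l : ℕ} (hn : Nat.card V = 2 ^ n)
    (hl : l.Prime) (hl2 : l ≠ 2) (h1 : l ∣ 2 ^ n - 1)
    (h2 : ∀ k : ℕ, 0 < k → k < n → ¬ l ∣ 2 ^ k - 1) (hπ : l ∈ π) (hE : l ∣ Nat.card E)
    {u : E} (hu : u * u = 1) (hu1 : u ≠ 1) : ∃ x : E, RO x ∧ Irr V x := by
  have : Fact l.Prime := ⟨hl⟩
  obtain ⟨y, hy1, -, hy, hi⟩ := h.exists_inverted hu hu1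
  obtain ⟨P, hP⟩ := exists_sylow_le_of_not_dvd_index (p := l) (C := centralizer ({y} : Set E))
    fun hd => h.real y hy l hl hd hπ
  obtain ⟨x, hx, ho, hc⟩ := exists_central_prime P.isPGroup' (P.ne_bot_of_dvd_card hE)
  have hirr : ∀ {a : E}, orderOf a = l → Irr V a := fun ha => irr_of_primitive hn hl h1 h2 ha
  have hP' : ((u • P : Sylow l E) : Subgroup E) ≤ centralizer ({y} : Set E) := fun g hg => by
    rw [Sylow.coe_subgroup_smul, mem_pointwise_smul_iff_inv_smul_mem, MulAut.smul_def,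
      MulAut.conj_inv_apply] at hg
    have h3 := (mem_normalizer_iff.1 (mem_normalizer_cent_of_inverts hi) _).1 (hP hg)
    rwa [show u * (u⁻¹ * g * u) * u⁻¹ = g by group] at h3
  obtain ⟨c, hc1, hc2⟩ := exists_smul_eq_of_le _ _ hP' hP
  rw [← mul_smul] at hc2
  have hs : c * u * y * (c * u)⁻¹ = y⁻¹ := by
    rw [show c * u * y * (c * u)⁻¹ = c * (u * y * u⁻¹) * c⁻¹ by group, hi, ← conj_inv,
      mem_cent_iff_conj.1 hc1]
  obtain ⟨t, ht, ⟨j, hj⟩, hti⟩ := exists_two_elem_mem_zpowers_inverts hs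
  have ht1 : t ≠ 1 := fun e => by
    rw [e, one_mul, inv_one, mul_one] at hti
    exact hy1 (eq_one_of_odd_of_sq_eq_one hy.odd (by rw [pow_two]; nth_rw 1 [hti]; simp))
  obtain ⟨t', ht', ho'⟩ := exists_prime_pow_mem (p := 2) (k := j) (x := t)
    (by rw [← hj, pow_orderOf_eq_one]) ht1
  have hn' : t' ∈ normalizer ((P : Subgroup E) : Set E) :=
    (zpowers_le.2 ((zpowers_le.2 (Sylow.smul_eq_iff_mem_normalizer.1 hc2)) ht)) ht'
  obtain ⟨h3, -⟩ := mul_self_of_orderOf ho'
  have h4 : t'⁻¹ = t' := inv_eq_of_mul_eq_one_right h3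
  have h5 : t' * x * t'⁻¹ ∈ (P : Subgroup E) := (mem_normalizer_iff.1 hn' x).1 hx
  have h6 : Commute (t' * x * t'⁻¹) x := hc _ h5
  have h7 : t' * x * t'⁻¹ * x = 1 := by
    by_contra hne
    have h8 : orderOf (t' * x * t'⁻¹ * x) = l := orderOf_eq_prime (by
      rw [h6.mul_pow, conj_pow, ← ho, pow_orderOf_eq_one]; simp) hne
    refine h.not_invol_of_irr (hirr h8) (mem_cent.2 ?_) ho'
    nth_rw 2 [h6.eq]
    rw [h4]
    calc t' * (t' * x * t' * x) = (t' * t') * x * t' * x := by simp only [mul_assoc]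
      _ = x * t' * x * (t' * t') := by rw [h3, one_mul, mul_one]
      _ = x * (t' * x * t') * t' := by simp only [mul_assoc]
  exact ⟨x, ⟨⟨l, 1, hl, hl2, by rw [ho, pow_one]⟩,
    isConj_iff.2 ⟨t', eq_inv_of_mul_eq_one_left h7⟩⟩, hirr ho⟩

/-- Double transitivity on the Sylow 2-subgroups. -/
theorem Hyp.two_trans [Nontrivial V] (h : Hyp π E V) (hns : ¬ Group.IsSolvable E)
    (hN : ∀ N : Subgroup E, N.Normal → N ≠ ⊤ → Group.IsSolvable N) {x : E} (hx : RO x)
    (hirr : Irr V x) {S T T' : Sylow 2 E} (hT : S ≠ T) (hT' : S ≠ T') :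
    ∃ g : E, g • S = S ∧ g • T = T' := by
  obtain ⟨n, hn⟩ := (IsPGroup.iff_card (p := 2)).1 (isPGroup_of_sq h.sq)
  have hcyc := (singer (p := 2) (fun v => by rw [pow_two, h.sq]) hn hirr).1
  have hperf : commutator E = ⊤ := by
    by_contra hne
    exact hns (Cor.isSolvable_of_normal_quotient _ (hN _ inferInstance hne)
      (inferInstanceAs (Group.IsSolvable (Abelianization E))))
  have hF : fittingSubgroup E ≤ centralizer ({x} : Set E) :=
    fitting_le_of_forall_pCore_le fun p hp => by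
      by_cases hπ : p ∈ π
      · obtain ⟨P, hP⟩ := exists_sylow_le_of_not_dvd_index (p := p)
          (C := centralizer ({x} : Set E)) fun hd => h.real x hx p hp.out hd hπ
        exact (pCore_le_sylow P).trans hP
      · rw [h.pCore_eq_bot hπ]; exact bot_le
  have hFc : IsCyclic (fittingSubgroup E) := isCyclic_of_le hF
  have hC : centralizer (fittingSubgroup E : Set E) = ⊤ :=
    eq_top_iff.2 (hperf ▸ PG.commutator_le_centralizer_of_isCyclic _)
  have hZ : ∀ N : Subgroup E, N.Normal → N ≠ ⊤ → N ≤ center E := fun N hn hne => by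
    have := hN N hn hne
    exact (le_fitting_of_isSolvable_of_le_centralizer N (hC ▸ le_top)).trans
      (centralizer_eq_top_iff_subset.1 hC)
  obtain ⟨v, hv, hvS⟩ := exists_fix h.sq S
  have hB := h.le_norm hv hvS
  have hBt : normalizer ((S : Subgroup E) : Set E) ≠ ⊤ := fun e =>
    hns (Cor.isSolvable_of_normal_sylow_two S (normalizer_eq_top_iff.1 e))
  obtain ⟨M, hM, hBM⟩ := (eq_top_or_exists_le_coatom _).resolve_left hBt
  have hK := hZ M.normalCore inferInstance fun e => hM.1 (eq_top_iff.2 (e ▸ normalCore_le M))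
  let _ : CommGroup (centralizer ({x} : Set E)) := IsCyclic.commGroup
  have hTM : ∀ t ∈ centralizer ({x} : Set E), t ∈ M → t ∈ M.normalCore := fun t ht htM g => by
    obtain ⟨c, hc, b, hb, e⟩ := h.trans hx hv g⁻¹
    have h1 : t * c = c * t :=
      congrArg Subtype.val (mul_comm (⟨t, ht⟩ : centralizer ({x} : Set E)) ⟨c, hc⟩)
    have h2 : g * t * g⁻¹ = b⁻¹ * t * b := by
      rw [← inv_inv g, e, inv_inv]
      calc (c * b)⁻¹ * t * (c * b) = b⁻¹ * (c⁻¹ * (t * c)) * b := by group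
        _ = b⁻¹ * t * b := by rw [h1]; group
    rw [h2]
    exact mul_mem (mul_mem (inv_mem (hBM (hB hb))) htM) (hBM (hB hb))
  have hMB : M = normalizer ((S : Subgroup E) : Set E) := le_antisymm (fun m hm => by
    obtain ⟨c, hc, b, hb, rfl⟩ := h.trans hx hv m
    have h1 : c ∈ M := (mul_mem_cancel_right (hBM (hB hb))).1 hm
    exact mul_mem (center_le_normalizer _ (hK (hTM c hc h1))) (hB hb)) hBM
  have : Nontrivial (Sylow 2 E) := ⟨⟨S, T, hT⟩⟩
  have hprim : IsPreprimitive E (Sylow 2 E) := (isCoatom_stabilizer_iff_preprimitive E S).1 (by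
    rw [Sylow.stabilizer_eq_normalizer]; exact hMB ▸ hM)
  have htr : ∀ a : Sylow 2 E, ∃ t ∈ centralizer ({x} : Set E), t • S = a := fun a => by
    obtain ⟨g, rfl⟩ := exists_smul_eq E S a
    obtain ⟨c, hc, b, hb, rfl⟩ := h.trans hx hv g
    exact ⟨c, hc, by rw [mul_smul, Sylow.smul_eq_iff_mem_normalizer.2 (hB hb)]⟩
  refine RealDisc.two_trans hprim _ hcyc (fun a b => ?_) (fun hs => hns ?_) hT hT'
  · obtain ⟨s, hs, rfl⟩ := htr a
    obtain ⟨t, ht, rfl⟩ := htr b
    exact ⟨t * s⁻¹, mul_mem ht (inv_mem hs), by rw [mul_smul, inv_smul_smul]⟩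
  · refine Cor.isSolvable_of_normal_quotient (toPermHom E (Sylow 2 E)).ker
      (hN _ inferInstance fun e => hT ?_)
      (Group.isSolvable_of_surjective
        (f := (QuotientGroup.quotientKerEquivRange (toPermHom E (Sylow 2 E))).symm.toMonoidHom)
        (MulEquiv.surjective _))
    obtain ⟨g, rfl⟩ := exists_smul_eq E S T
    have h1 : g ∈ (toPermHom E (Sylow 2 E)).ker := e ▸ mem_top g
    exact (congrArg (fun σ : Equiv.Perm (Sylow 2 E) => σ S) h1).symm

omit [Finite E] [FaithfulSMul E V] in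
theorem card_inf_smul (g : E) (S T : Sylow 2 E) :
    Nat.card (((g • S : Sylow 2 E) : Subgroup E) ⊓ (g • T : Sylow 2 E) : Subgroup E) =
      Nat.card ((S : Subgroup E) ⊓ T : Subgroup E) := by
  rw [Sylow.coe_subgroup_smul, Sylow.coe_subgroup_smul, ← smul_inf]
  exact card_map_of_injective (MulAut.conj g).injective

theorem Hyp.false_of_min [Nontrivial V] (h : Hyp π E V) (hns : ¬ Group.IsSolvable E)
    (hN : ∀ N : Subgroup E, N.Normal → N ≠ ⊤ → Group.IsSolvable N) : False := by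
  by_cases hti : ∀ S T : Sylow 2 E, S ≠ T → (S : Subgroup E) ⊓ T = ⊥
  · exact h.ti_false hns hti
  push Not at hti
  obtain ⟨S, T, hST, hne⟩ := hti
  obtain ⟨u, hu, ho, -⟩ := exists_central_prime (S.isPGroup'.to_le inf_le_left) hne
  obtain ⟨hu2, hu1⟩ := mul_self_of_orderOf ho
  have hq := (h.card_fx hu2 hu1).1
  have hdis : Cf V (S : Subgroup E) ⊓ Cf V (T : Subgroup E) = ⊥ := by
    rw [eq_bot_iff]
    intro v hv
    by_contra hv1
    exact hST (h.sy_eq hv1 hv.1 hv.2)
  have haq := card_mul_le_of_disjoint (U := fx V u) hdis (fun v hv => hv u hu.1)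
    fun v hv => hv u hu.2
  have e1 : Nat.card (Cf V (T : Subgroup E)) = Nat.card (Cf V (S : Subgroup E)) := by
    obtain ⟨g, rfl⟩ := exists_smul_eq E S T
    exact card_Cf_smul g S
  rw [e1] at haq
  obtain ⟨v, hv, hvS⟩ := exists_fix h.sq S
  have ha : 2 ≤ Nat.card (Cf V (S : Subgroup E)) :=
    (one_lt_card_iff_ne_bot _).2 fun e => hv (mem_bot.1 (e ▸ hvS))
  obtain ⟨n, hn⟩ := (IsPGroup.iff_card (p := 2)).1 (isPGroup_of_sq h.sq)
  obtain ⟨k, hk⟩ := (IsPGroup.iff_card (p := 2)).1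
    ((isPGroup_of_sq h.sq).to_subgroup (Cf V (S : Subgroup E)))
  have hlt : Nat.card (Cf V (S : Subgroup E)) < Nat.card V := by
    rw [← hq]
    generalize Nat.card (Cf V (S : Subgroup E)) = a at ha haq ⊢
    have : a < Nat.card (fx V u) := by nlinarith
    nlinarith
  by_cases h6 : n = 6
  · rw [h6] at hn
    refine h.six_false hn S (fun e => hu1 (mem_bot.1 (e ▸ hu.1))) ?_
    rw [hn] at hq
    have : Nat.card (fx V u) = 8 := by nlinarith
    rw [this] at haq
    have : Nat.card (Cf V (S : Subgroup E)) ≤ 2 := by nlinarith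
    omega
  have hk0 : 0 < k := Nat.pos_of_ne_zero fun e => by rw [hk, e] at ha; omega
  have hkn : k < n := by
    rw [hk, hn] at hlt
    exact (Nat.pow_lt_pow_iff_right (by omega)).1 hlt
  obtain ⟨l, hl, h1, h2⟩ := Cfsg.Agent.S2904.result 2 n (by omega) (by omega) (by omega) (by
    rintro ⟨-, m, hm⟩
    rcases m with _ | m
    · omega
    · rw [pow_succ] at hm; omega)
  have hl2 : l ≠ 2 := by
    rintro rfl
    obtain ⟨m, rfl⟩ : ∃ m, n = m + 1 := ⟨n - 1, by omega⟩
    rw [pow_succ] at h1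
    have := Nat.two_pow_pos m
    omega
  have hm : l ∣ Nat.card (Sylow 2 E) := by
    have h3 := h.card_sub_one S
    rw [hn, hk] at h3
    exact ((Nat.Prime.dvd_mul hl).1 (h3 ▸ h1)).resolve_right (h2 k hk0 hkn)
  rw [Sylow.card_eq_index_normalizer S] at hm
  have hπ : l ∈ π := h.idx v hv l hl (hm.trans (index_dvd_of_le (h.le_norm hv hvS)))
  obtain ⟨x, hx, hirr⟩ := h.exists_real_irr hn hl hl2 h1 h2 hπ
    (hm.trans (index_dvd_card _)) hu2 hu1
  have hall : ∀ T' : Sylow 2 E, T' ≠ S → Nat.card ((S : Subgroup E) ⊓ T' : Subgroup E) =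
      Nat.card ((S : Subgroup E) ⊓ T : Subgroup E) := fun T' hT' => by
    obtain ⟨g, e1, e2⟩ := h.two_trans hns hN hx hirr hST hT'.symm
    rw [← card_inf_smul g S T, e1, e2]
  obtain ⟨w, hw, hw'⟩ := exists_fix_two h.sq S fun e => by
    rw [e, card_top] at hlt; omega
  have hw1 : w ≠ 1 := fun e => hw (e ▸ one_mem _)
  obtain ⟨R, hR, -⟩ := h.exists_sy hw1
  have hRS : R ≠ S := fun e => hw (e ▸ mem_Cf.2 hR)
  refine h.count_false S hq ha haq ((one_lt_card_iff_ne_bot _).2 hne)
    (fun T' hT' => (hall T' hT').ge) ?_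
  let φ : (S : Subgroup E) →* Cf V (S : Subgroup E) :=
    { toFun := fun s => ⟨dl V s w, hw' s s.2⟩
      map_one' := Subtype.ext (dl_one w)
      map_mul' := fun a b => Subtype.ext (by
        have h3 : (a : E) • dl V (b : E) w = dl V (b : E) w := hw' b b.2 a a.2
        change dl V ((a : E) * b) w = dl V (a : E) w * dl V (b : E) w
        rw [dl_apply, smul_mul', smul_inv'] at h3
        rw [dl_apply, dl_apply, dl_apply, ← h3, mul_smul, mul_mul_mul_comm,
          mul_comm ((a : E) • w), mul_mul_mul_comm, mul_inv_cancel, mul_one]) }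
  have h3 := φ.ker.card_mul_index
  rw [index_ker] at h3
  rw [← h3, ← hall R hRS, mul_comm]
  refine Nat.mul_le_mul (card_le_card_group _) (Nat.card_le_card_of_injective
    (fun s => ⟨s.1, s.1.2, ?_⟩) fun a b e => Subtype.ext (Subtype.ext
      (congrArg (fun x : ((S : Subgroup E) ⊓ R : Subgroup E) => (x : E)) e)))
  obtain ⟨j, hj⟩ := pow_eq_one_of_mem S.isPGroup' s.1.2
  refine h.mem_sy hw1 (mem_Cf.2 hR) hj ?_
  rw [← mem_fx, ← ker_dl]
  exact congrArg Subtype.val s.2

end Mod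

theorem solvable_aux {π : Set ℕ} {V : Type*} [CommGroup V] [Finite V] [Nontrivial V] (n : ℕ) :
    ∀ (E : Type u) [Group E] [Finite E] [MulDistribMulAction E V] [FaithfulSMul E V],
      Nat.card E = n → Hyp π E V → Group.IsSolvable E := by
  induction n using Nat.strong_induction_on with
  | _ n ih =>
    intro E _ _ _ _ hn h
    by_contra hns
    refine h.false_of_min hns fun N _ hne => ih _ ?_ N rfl (h.normal N)
    rw [← hn]
    exact (card_le_card_group N).lt_of_ne fun e => hne (eq_top_of_card_eq N e)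

theorem Hyp.solvable {π : Set ℕ} {E V : Type*} [Group E] [CommGroup V] [MulDistribMulAction E V]
    [Finite E] [Finite V] [FaithfulSMul E V] [Nontrivial V] (h : Hyp π E V) :
    Group.IsSolvable E := solvable_aux _ E rfl h

end Cfsg.Lib.RealDisc
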