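import Cfsg.Agent.RealDisc.Main

/-!
Structure of groups whose prime graph on real class sizes is disconnected.
-/

set_option autoImplicit false

open Subgroup MulAction
open scoped Pointwise

namespace Cfsg.Lib.RealDisc

open Cfsg.Lib.Solv Cfsg.Lib.Solv.ClassSize Cfsg.Lib.Solv.Real

universe u

variable {G : Type*} [Group G] [Finite G] {π : Set ℕ}

omit [Finite G] in
theorem setup_aux (π₁ π₂ : Set ℕ) (h₁ : π₁.Nonempty) (h₂ : π₂.Nonempty)
    (hcover : ∀ q : ℕ, q.Prime → (∃ n ∈ {n : ℕ | ∃ x : G, IsConj x x⁻¹ ∧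
      (centralizer ({x} : Set G)).index = n}, q ∣ n) → q ∈ π₁ ∨ q ∈ π₂)
    (hsub : ∀ q ∈ π₁ ∪ π₂, q.Prime ∧ ∃ n ∈ {n : ℕ | ∃ x : G, IsConj x x⁻¹ ∧
      (centralizer ({x} : Set G)).index = n}, q ∣ n)
    (hno : ∀ a ∈ π₁, ∀ b ∈ π₂, ∀ n ∈ {n : ℕ | ∃ x : G, IsConj x x⁻¹ ∧
      (centralizer ({x} : Set G)).index = n}, ¬ (a ∣ n ∧ b ∣ n)) (h2 : 2 ∉ π₂) :
    ∃ (π : Set ℕ) (t x : G), GH π G ∧ IsConj t t⁻¹ ∧ t ∉ center G ∧
      IsPiNum π (centralizer ({t} : Set G)).index ∧ IsConj x x⁻¹ ∧ x ∉ center G ∧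
      IsPiNum πᶜ (centralizer ({x} : Set G)).index := by
  have k1 : ∀ x : G, IsConj x x⁻¹ → ∀ b ∈ π₂, b ∣ (centralizer ({x} : Set G)).index →
      IsPiNum π₂ (centralizer ({x} : Set G)).index := fun x hx b hb hd p hp hpd =>
    (hcover p hp ⟨_, ⟨x, hx, rfl⟩, hpd⟩).resolve_left fun h =>
      hno p h b hb _ ⟨x, hx, rfl⟩ ⟨hpd, hd⟩
  obtain ⟨a, ha⟩ := h₁
  obtain ⟨b, hb⟩ := h₂
  obtain ⟨hap, _, ⟨x, hx, rfl⟩, hax⟩ := hsub a (Or.inl ha)
  obtain ⟨hbp, _, ⟨t, ht, rfl⟩, hbt⟩ := hsub b (Or.inr hb)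
  refine ⟨π₂, t, x, ⟨h2, fun y hy => ?_⟩, ht, fun hc => ?_, k1 t ht b hb hbt, hx, fun hc => ?_,
    fun p _ hpd hp => hno a ha p hp _ ⟨x, hx, rfl⟩ ⟨hax, hpd⟩⟩
  · by_cases h : IsPiNum π₂ᶜ (centralizer ({y} : Set G)).index
    · exact Or.inr h
    · simp only [IsPiNum, not_forall, Set.mem_compl_iff, not_not] at h
      obtain ⟨p, -, hd, hp⟩ := h
      exact Or.inl (k1 y hy p hp hd)
  · rw [index_cent_eq_one_iff.2 hc] at hbt
    exact hbp.not_dvd_one hbt
  · rw [index_cent_eq_one_iff.2 hc] at hax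
    exact hap.not_dvd_one hax

omit [Finite G] in
theorem setup (π₁ π₂ : Set ℕ) (h₁ : π₁.Nonempty) (h₂ : π₂.Nonempty)
    (hcover : ∀ q : ℕ, q.Prime → (∃ n ∈ {n : ℕ | ∃ x : G, IsConj x x⁻¹ ∧
      (centralizer ({x} : Set G)).index = n}, q ∣ n) → q ∈ π₁ ∨ q ∈ π₂)
    (hsub : ∀ q ∈ π₁ ∪ π₂, q.Prime ∧ ∃ n ∈ {n : ℕ | ∃ x : G, IsConj x x⁻¹ ∧
      (centralizer ({x} : Set G)).index = n}, q ∣ n) (hdisj : Disjoint π₁ π₂)
    (hno : ∀ a ∈ π₁, ∀ b ∈ π₂, ∀ n ∈ {n : ℕ | ∃ x : G, IsConj x x⁻¹ ∧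
      (centralizer ({x} : Set G)).index = n}, ¬ (a ∣ n ∧ b ∣ n)) :
    ∃ (π : Set ℕ) (t x : G), GH π G ∧ IsConj t t⁻¹ ∧ t ∉ center G ∧
      IsPiNum π (centralizer ({t} : Set G)).index ∧ IsConj x x⁻¹ ∧ x ∉ center G ∧
      IsPiNum πᶜ (centralizer ({x} : Set G)).index := by
  by_cases h2 : 2 ∈ π₂
  · exact setup_aux π₂ π₁ h₂ h₁ (fun q hq h => (hcover q hq h).symm)
      (fun q hq => hsub q (Or.symm hq))
      (fun a ha b hb n hn h => hno b hb a ha n hn h.symm) (Set.disjoint_right.1 hdisj h2)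
  · exact setup_aux π₁ π₂ h₁ h₂ hcover hsub hno h2

theorem two_dvd_index_of_real {x : G} (hx : IsConj x x⁻¹) (h2 : x * x ≠ 1) :
    2 ∣ (centralizer ({x} : Set G)).index := by
  by_contra h
  exact h2 (by
    rw [← pow_two]
    exact sq_eq_one_of_odd_index hx (by rwa [← Nat.not_even_iff_odd, even_iff_two_dvd]))

omit [Finite G] in
theorem RO.mul_self_ne {y : G} (hy : RO y) (h1 : y ≠ 1) : y * y ≠ 1 :=
  fun e => h1 (eq_one_of_odd_of_sq_eq_one hy.odd (by rw [pow_two, e]))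

theorem GH.exists_even (h : GH π G) {t x : G} (ht : IsConj t t⁻¹) (htc : t ∉ center G)
    (htπ : IsPiNum π (centralizer ({t} : Set G)).index) (hx : IsConj x x⁻¹) (hxc : x ∉ center G)
    (hxπ : IsPiNum πᶜ (centralizer ({x} : Set G)).index) :
    ∃ y : G, IsConj y y⁻¹ ∧ 2 ∣ (centralizer ({y} : Set G)).index := by
  by_contra hcon
  push Not at hcon
  have hN : NoR G := fun y hy => by
    by_contra h1
    exact hcon y hy.2 (two_dvd_index_of_real hy.2 (hy.mul_self_ne h1))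
  obtain ⟨S⟩ : Nonempty (Sylow 2 G) := inferInstance
  have hSn := hN.normal S
  have := Sylow.unique_of_normal S hSn
  have k1 : ∀ {y : G}, IsConj y y⁻¹ → y * y = 1 ∧ y ∈ (S : Subgroup G) ∧
      (S : Subgroup G) ≤ centralizer ({y} : Set G) := fun {y} hy => by
    have h1 : y * y = 1 := by
      by_contra h1
      exact hcon y hy (two_dvd_index_of_real hy h1)
    obtain ⟨T, hT⟩ := exists_sylow_mem_of_pow_eq_one (p := 2) (k := 1) (x := y)
      (by rw [pow_one, pow_two, h1])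
    obtain ⟨R, hR⟩ := exists_sylow_le_of_not_dvd_index (hcon y hy)
    exact ⟨h1, Subsingleton.elim T S ▸ hT, Subsingleton.elim R S ▸ hR⟩
  have k2 : ∀ {a b : G}, IsConj a a⁻¹ → IsConj b b⁻¹ → a * b = b * a := fun ha hb =>
    mem_cent.1 ((k1 hb).2.2 (k1 ha).2.1)
  have k3 : ∀ {a b : G}, IsConj a a⁻¹ → IsConj b b⁻¹ → a * b * (a * b) = 1 := fun {a b} ha hb => by
    rw [mul_assoc, ← mul_assoc b, k2 hb ha, mul_assoc, (k1 hb).1, mul_one, (k1 ha).1]
  have k4 : ∀ {a b : G}, IsConj a a⁻¹ → IsConj b b⁻¹ →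
      (centralizer ({a} : Set G)).index.Coprime (centralizer ({b} : Set G)).index →
      (centralizer ({a * b} : Set G)).index.Coprime (centralizer ({a} : Set G)).index →
      a ∈ center G := fun {a b} ha hb h1 h2 => mem_center_iff.2 fun g => by
    have h3 := h2.dvd_of_dvd_mul_left (index_mul_dvd h1)
    have h4 : IsConj (g * a * g⁻¹) (g * a * g⁻¹)⁻¹ :=
      isConj_inv_of_mul_self (by rw [conj_mul, (k1 ha).1]; simp)
    have h5 : IsConj (g * a * g⁻¹)⁻¹ (g * a * g⁻¹)⁻¹⁻¹ := by rw [inv_inv]; exact h4.symm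
    have h6 := eq_one_of_mul_mem (hcon b hb) (k3 h5 ha) fun z hz =>
      bhm_step h1 (Nat.le_of_dvd (Nat.pos_of_ne_zero index_ne_zero_of_finite) h3)
        (isConj_iff.2 ⟨g, rfl⟩) hz
    rwa [inv_mul_eq_one, mul_inv_eq_iff_eq_mul] at h6
  rcases h.split (x * t) (isConj_inv_of_mul_self (k3 hx ht)) with h1 | h1
  · exact hxc (k4 hx ht (htπ.coprime hxπ).symm (h1.coprime hxπ))
  · rw [k2 hx ht] at h1
    exact htc (k4 ht hx (htπ.coprime hxπ) (htπ.coprime h1).symm)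

omit [Finite G] in
theorem exists_pow_not_mem {C : Subgroup G} {k : ℕ} : ∀ {s : G}, s ^ 2 ^ k = 1 → s ∉ C →
    ∃ s', s' ∉ C ∧ s' * s' ∈ C := by
  induction k with
  | zero => intro s hs h; rw [pow_zero, pow_one] at hs; exact (h (hs ▸ one_mem _)).elim
  | succ k ih =>
    intro s hs h
    by_cases h2 : s * s ∈ C
    · exact ⟨s, h, h2⟩
    · exact ih (by rw [← pow_two, ← pow_mul, ← pow_succ']; exact hs) h2

theorem exists_real_prime_aux {p : ℕ} [hp : Fact p.Prime] (hp2 : p ≠ 2) (n : ℕ) :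
    ∀ (X : Type u) [Group X] [Finite X], Nat.card X = n → Group.IsSolvable X →
      (∀ N : Subgroup X, N.Normal → Odd N.index → N = ⊤) → p ∣ Nat.card X →
      ∃ y : X, y ≠ 1 ∧ (∃ j, orderOf y = p ^ j) ∧ IsConj y y⁻¹ := by
  induction n using Nat.strong_induction_on with
  | _ n ih =>
    intro X _ _ hn hs hN hd
    have : Nontrivial X := Finite.one_lt_card_iff_nontrivial.1
      (lt_of_lt_of_le hp.out.one_lt (Nat.le_of_dvd Nat.card_pos hd))
    obtain ⟨q, hq, hM⟩ : ∃ (q : ℕ) (_ : Fact q.Prime), pCore q X ≠ ⊥ := by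
      by_contra hcon
      push Not at hcon
      exact fitting_ne_bot_of_isSolvable X (fitting_eq_bot_iff_forall_pCore.2 fun q hq => hcon q hq)
    by_cases h1 : p ∣ (pCore q X).index
    · obtain ⟨y, hy1, ⟨j, hj⟩, hy⟩ := ih _ (hn ▸ card_quotient_lt_of_ne_bot _ hM) (X ⧸ pCore q X) rfl
        inferInstance (fun N hN' ho => by
          have h2 := hN (N.comap (QuotientGroup.mk' _)) inferInstance
            (by rwa [index_comap_of_surjective _ (QuotientGroup.mk'_surjective _)])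
          rw [← map_comap_eq_self_of_surjective (QuotientGroup.mk'_surjective _) N, h2,
            map_top_of_surjective _ (QuotientGroup.mk'_surjective _)]) h1
      obtain ⟨x, rfl, hx, hx'⟩ := exists_real_lift_prime_pow _ (QuotientGroup.mk'_surjective _)
        hp.out hp2 hj hy
      exact ⟨x, fun e => hy1 (by rw [e, map_one]), hx, hx'⟩
    obtain ⟨k, hk⟩ := (IsPGroup.iff_card (p := q)).1 (pCore_isPGroup q X)
    obtain rfl : p = q := by
      rw [← (pCore q X).card_mul_index, hk] at hd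
      exact (Nat.prime_dvd_prime_iff_eq hp.out hq.out).1
        (hp.out.dvd_of_dvd_pow (((Nat.Prime.dvd_mul hp.out).1 hd).resolve_right h1))
    have hodd : Odd (Nat.card (pCore p X)) := hk ▸ (hp.out.odd_of_ne_two hp2).pow
    obtain ⟨S⟩ : Nonempty (Sylow 2 X) := inferInstance
    by_cases h2 : (S : Subgroup X) ≤ centralizer (pCore p X : Set X)
    · exfalso
      have h3 := hN (centralizer (pCore p X : Set X)) inferInstance
        ((Cor.odd_index_sylow S).of_dvd_nat (index_dvd_of_le h2))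
      obtain ⟨L, hL⟩ := exists_right_complement'_of_coprime (N := pCore p X) (by
        rw [hk]; exact (hp.out.coprime_iff_not_dvd.2 h1).pow_left k)
      have h4 : L.Normal := normalizer_eq_top_iff.1 (eq_top_iff.2 (hL.sup_eq_top ▸ sup_le
        ((centralizer_eq_top_iff_subset.1 h3 : pCore p X ≤ center X).trans
          (center_le_normalizer _)) le_normalizer))
      have h5 := hN L h4 (hL.index_eq_card ▸ hodd)
      exact hM (by simpa [h5] using hL.disjoint)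
    obtain ⟨s, hs, hsC⟩ := SetLike.not_le_iff_exists.1 h2
    obtain ⟨j, hj⟩ := pow_eq_one_of_mem S.isPGroup' hs
    obtain ⟨s', h3, h4⟩ := exists_pow_not_mem hj hsC
    obtain ⟨m, hm, hne⟩ : ∃ m ∈ pCore p X, m * s' ≠ s' * m := by
      by_contra hcon
      push Not at hcon
      exact h3 (mem_centralizer_iff.2 hcon)
    have h5 : m⁻¹ * (s' * m * s'⁻¹) ∈ pCore p X :=
      mul_mem (inv_mem hm) (Normal.conj_mem inferInstance m hm s')
    obtain ⟨i, hi⟩ := pow_eq_one_of_mem (pCore_isPGroup p X) h5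
    obtain ⟨i', -, hi'⟩ := (Nat.dvd_prime_pow hp.out).1 (orderOf_dvd_of_pow_eq_one hi)
    refine ⟨_, fun e => hne ?_, ⟨i', hi'⟩, isConj_iff.2 ⟨s', ?_⟩⟩
    · rw [inv_mul_eq_one, eq_mul_inv_iff_mul_eq] at e
      exact e
    · have h6 := mem_centralizer_iff.1 h4 m hm
      calc s' * (m⁻¹ * (s' * m * s'⁻¹)) * s'⁻¹
          = s' * m⁻¹ * s'⁻¹ * (s' * s' * m * (s' * s')⁻¹) := by group
        _ = (m⁻¹ * (s' * m * s'⁻¹))⁻¹ := by rw [← h6]; group

/-- The subgroup generated by the 2-elements. -/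
abbrev K2 (G : Type*) [Group G] : Subgroup G := closure {g : G | ∃ k : ℕ, orderOf g = 2 ^ k}

instance K2_normal (G : Type*) [Group G] : (K2 G).Normal := ⟨fun w hw g => by
  induction hw using closure_induction with
  | mem x hx =>
    obtain ⟨k, hk⟩ := hx
    exact Subgroup.subset_closure ⟨k, ((MulAut.conj g).orderOf_eq x).trans hk⟩
  | one => simp
  | mul x y _ _ h1 h2 => rw [← conj_mul]; exact mul_mem h1 h2
  | inv x _ h1 => rw [← conj_inv]; exact inv_mem h1⟩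

theorem odd_index_K2 : Odd (K2 G).index := by
  obtain ⟨S⟩ : Nonempty (Sylow 2 G) := inferInstance
  refine (Cor.odd_index_sylow S).of_dvd_nat (index_dvd_of_le fun s hs => subset_closure ?_)
  obtain ⟨k, hk⟩ := pow_eq_one_of_mem S.isPGroup' hs
  obtain ⟨i, -, hi⟩ := (Nat.dvd_prime_pow Nat.prime_two).1 (orderOf_dvd_of_pow_eq_one hk)
  exact ⟨i, hi⟩

omit [Finite G] in
theorem K2_eq_top (N : Subgroup (K2 G)) (hN : N.Normal) (ho : Odd N.index) : N = ⊤ := by
  rw [eq_top_iff]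
  rintro ⟨w, hw⟩ -
  induction hw using closure_induction with
  | mem x hx =>
    obtain ⟨k, hk⟩ := hx
    refine le_of_coprime_card_index (H := zpowers _) ?_ (mem_zpowers _)
    rw [Nat.card_zpowers, ← orderOf_coe, hk]
    exact (Nat.coprime_two_left.2 ho).pow_left k
  | one => exact one_mem N
  | mul x y hx hy h1 h2 => exact mul_mem h1 h2
  | inv x hx h1 => exact inv_mem h1

theorem GH.not_dvd_card (h : GH π G) {t : G} (ht : IsConj t t⁻¹) (htc : t ∉ center G)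
    (htπ : IsPiNum π (centralizer ({t} : Set G)).index) {p : ℕ} (hp : p.Prime) (hp2 : p ≠ 2)
    (hπ : p ∉ π) : ¬ p ∣ Nat.card (K2 G) := fun hd => by
  have : Fact p.Prime := ⟨hp⟩
  have := h.solvable ht htc htπ
  obtain ⟨y, hy1, ⟨j, hj⟩, hy⟩ := exists_real_prime_aux hp2 _ (K2 G) rfl inferInstance K2_eq_top hd
  have hr : RO (y : G) := RO.map_inj (K2 G).subtype (subtype_injective _) ⟨⟨p, j, hp, hp2, hj⟩, hy⟩
  obtain ⟨P, hP⟩ := exists_sylow_le_of_not_dvd_index (p := p) (C := centralizer ({t} : Set G))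
    fun hd => hπ (htπ p hp hd)
  obtain ⟨Q, hQ⟩ := exists_sylow_mem_of_pow_eq_one (p := p) (k := j) (x := (y : G))
    (by rw [← hj, ← orderOf_coe, pow_orderOf_eq_one])
  obtain ⟨g, rfl⟩ := exists_smul_eq G P Q
  rw [Sylow.coe_subgroup_smul, mem_pointwise_smul_iff_inv_smul_mem, MulAut.smul_def,
    MulAut.conj_inv_apply] at hQ
  have hr' : RO (g⁻¹ * y * g) := by simpa using hr.conj g⁻¹
  obtain ⟨S, -, hS⟩ := exists_sylow_of_NoR (h.noR (h.sq ht htπ) htc htπ) (h.odd htπ)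
  obtain ⟨s, ⟨i, hi⟩, hs⟩ := exists_two_elem_inverts hr'.2
  obtain ⟨T, hT⟩ := exists_sylow_mem_of_pow_eq_one (p := 2) (k := i) (x := s)
    (by rw [← hi, pow_orderOf_eq_one])
  obtain ⟨k, rfl⟩ := exists_smul_eq G S T
  obtain ⟨c, hc, b, hb, rfl⟩ := forall_mul_of_coprime_index (htπ.coprime (h.ro hr')).symm k
  have h1 : b • S = S := Sylow.smul_eq_iff_mem_normalizer.2 (hS hb)
  have h2 : (g⁻¹ * y * g) • S = S := Sylow.smul_eq_iff_mem_normalizer.2 (hS (hP hQ))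
  have h3 := eq_one_of_inverted_of_normalizer _ hr'.odd hT hs (Sylow.smul_eq_iff_mem_normalizer.1
    (by rw [mul_smul c, h1, ← mul_smul, ← mem_cent.1 hc, mul_smul, h2]))
  refine hy1 (Subtype.ext ?_)
  calc (y : G) = g * (g⁻¹ * y * g) * g⁻¹ := by group
    _ = 1 := by rw [h3]; group

end Cfsg.Lib.RealDisc
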